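import Mathlib.AlgebraicGeometry.Morphisms.Finite
import Mathlib.AlgebraicGeometry.Morphisms.FormallyUnramified
import Mathlib.AlgebraicGeometry.Morphisms.UniversallyInjective
import Mathlib.AlgebraicGeometry.ResidueField

/-!
# A finite unramified morphism with a rational one-point fibre is a monomorphism nearby
-/

open CategoryTheory Limits AlgebraicGeometry

universe u

namespace Groth.Agent.EtFin

theorem exists_nhd_mono {X S : Scheme.{u}} (f : X ⟶ S) [IsFinite f] [FormallyUnramified f] (s : S)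
    (x : X) (hx : f.base ⁻¹' {s} = {x}) (hκ : Function.Surjective (f.residueFieldMap x)) :
    ∃ U : S.Opens, s ∈ U ∧ Mono (f ∣_ U) := by
  let Δ := pullback.diagonal f
  let p := pullback.fst f f ≫ f
  let C : Set ↥(pullback f f) := (Set.range Δ)ᶜ
  have hC : IsClosed C := Δ.isOpenEmbedding.isOpen_range.isClosed_compl
  have hpC : IsClosed (p '' C) := p.isClosedMap _ hC
  have hfs : ∀ y, f y = s → y = x := fun y hy => by
    have : y ∈ f.base ⁻¹' {s} := hy
    rwa [hx] at this
  refine ⟨⟨(p '' C)ᶜ, hpC.isOpen_compl⟩, ?_, ⟨fun {Z} a b hab => ?_⟩⟩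
  · rintro ⟨z, hzC, hz⟩
    apply hzC
    let φ := (pullback f f).fromSpecResidueField z
    let g₁ := φ ≫ pullback.fst f f
    let g₂ := φ ≫ pullback.snd f f
    have hg : g₁ ≫ f = g₂ ≫ f := by simp [g₁, g₂, pullback.condition]
    let c := IsLocalRing.closedPoint ((pullback f f).residueField z)
    have hφ : φ c = z := Scheme.fromSpecResidueField_apply _ _
    have h₁ : g₁ c = x := hfs _ (by
      rw [← Scheme.Hom.comp_apply]
      show (φ ≫ pullback.fst f f ≫ f) c = s
      rw [Scheme.Hom.comp_apply, hφ]; exact hz)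
    have h₂ : g₂ c = x := hfs _ (by
      rw [← Scheme.Hom.comp_apply, ← hg]
      show (φ ≫ pullback.fst f f ≫ f) c = s
      rw [Scheme.Hom.comp_apply, hφ]; exact hz)
    have key : g₁ = g₂ := by
      have hrep : ∀ g : Spec ((pullback f f).residueField z) ⟶ X, g c = x →
          ∃ a : X.residueField x ⟶ (pullback f f).residueField z,
            g = Spec.map a ≫ X.fromSpecResidueField x := by
        intro g hgc
        obtain ⟨⟨y, a⟩, rfl⟩ := (X.SpecToEquivOfField _).symm.surjective g
        have hy : y = x := by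
          rw [← hgc]
          exact (Scheme.fromSpecResidueField_apply y _).symm
        subst hy
        exact ⟨a, rfl⟩
      obtain ⟨a₁, ha₁⟩ := hrep g₁ h₁
      obtain ⟨a₂, ha₂⟩ := hrep g₂ h₂
      rw [ha₁, ha₂] at hg ⊢
      simp only [Category.assoc, ← f.SpecMap_residueFieldMap_fromSpecResidueField x,
        ← Spec.map_comp_assoc, cancel_mono] at hg
      have he := Spec.map_injective hg
      congr 2
      ext r
      obtain ⟨t, rfl⟩ := hκ r
      exact congr(($he).hom t)
    refine ⟨g₁ c, ?_⟩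
    rw [← Scheme.Hom.comp_apply, show g₁ ≫ Δ = φ from ?_, hφ]
    ext1
    · simp [Δ, g₁]
    · simp only [Δ, Category.assoc, pullback.diagonal_snd, Category.comp_id]; exact key
  · let U : S.Opens := ⟨(p '' C)ᶜ, hpC.isOpen_compl⟩
    have hab' : (a ≫ (f ⁻¹ᵁ U).ι) ≫ f = (b ≫ (f ⁻¹ᵁ U).ι) ≫ f := by
      simp only [Category.assoc, ← morphismRestrict_ι]
      exact (reassoc_of% hab) _
    let q := pullback.lift (a ≫ (f ⁻¹ᵁ U).ι) (b ≫ (f ⁻¹ᵁ U).ι) hab'
    have hq : Set.range q ⊆ Set.range Δ := by
      rintro _ ⟨w, rfl⟩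
      by_contra hw
      have h1 : p (q w) ∈ p '' C := ⟨_, hw, rfl⟩
      have h2 : p (q w) ∈ U := by
        rw [← Scheme.Hom.comp_apply]
        simp only [p, q, pullback.lift_fst_assoc, Category.assoc]
        rw [Scheme.Hom.comp_apply, Scheme.Hom.comp_apply]
        exact (a w).2
      exact h2 h1
    let l := IsOpenImmersion.lift Δ q hq
    have hl : l ≫ Δ = q := IsOpenImmersion.lift_fac _ _ hq
    rw [← cancel_mono (f ⁻¹ᵁ U).ι]
    calc a ≫ (f ⁻¹ᵁ U).ι = q ≫ pullback.fst f f := (pullback.lift_fst _ _ _).symm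
      _ = l := by rw [← hl, Category.assoc, pullback.diagonal_fst, Category.comp_id]
      _ = q ≫ pullback.snd f f := by rw [← hl, Category.assoc, pullback.diagonal_snd, Category.comp_id]
      _ = _ := pullback.lift_snd _ _ _

end Groth.Agent.EtFin
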