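import Mathlib.AlgebraicGeometry.Morphisms.Etale
import Mathlib.AlgebraicGeometry.Morphisms.FlatMono
import Mathlib.AlgebraicGeometry.Morphisms.FormallyUnramified
import Mathlib.AlgebraicGeometry.Morphisms.UniversallyInjective
import Mathlib.AlgebraicGeometry.Morphisms.UniversallyClosed
import Mathlib.CategoryTheory.Comma.Over.Pullback

/-!
# Topological invariance of morphisms into étale schemes
-/

open CategoryTheory Limits AlgebraicGeometry

universe u

namespace Groth.Agent.EtFin

/-- Morphisms into an unramified scheme agreeing after a surjective precomposition are equal. -/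
theorem eq_of_surjective_comp_eq {T' T X S : Scheme.{u}} (g : T' ⟶ T) [Surjective g] (h : X ⟶ S)
    [FormallyUnramified h] [LocallyOfFiniteType h] (a b : T ⟶ X) (hab : a ≫ h = b ≫ h)
    (hg : g ≫ a = g ≫ b) : a = b := by
  let q := pullback.lift a b hab
  have hq : Set.range q ⊆ Set.range (pullback.diagonal h) := by
    rintro _ ⟨t, rfl⟩
    obtain ⟨t', rfl⟩ := g.surjective t
    refine ⟨(g ≫ a) t', ?_⟩
    have e : (g ≫ a) ≫ pullback.diagonal h = g ≫ q := by
      apply pullback.hom_ext
      · rw [Category.assoc, Category.assoc, pullback.diagonal_fst, Category.comp_id]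
        exact congrArg (g ≫ ·) (pullback.lift_fst a b hab).symm
      · rw [Category.assoc, Category.assoc, pullback.diagonal_snd, Category.comp_id]
        exact hg.trans (congrArg (g ≫ ·) (pullback.lift_snd a b hab).symm)
    rw [← Scheme.Hom.comp_apply, e, Scheme.Hom.comp_apply]
  have hl : IsOpenImmersion.lift _ q hq ≫ pullback.diagonal h = q := IsOpenImmersion.lift_fac _ _ hq
  have ha : q ≫ pullback.fst h h = a := pullback.lift_fst _ _ _
  have hb : q ≫ pullback.snd h h = b := pullback.lift_snd _ _ _
  rw [← ha, ← hb]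
  conv_lhs => rw [← hl]
  conv_rhs => rw [← hl]
  rw [Category.assoc, Category.assoc]
  erw [pullback.diagonal_fst, pullback.diagonal_snd]

/-- Along a universal homeomorphism `g`, a morphism over `T` into an étale `T`-scheme comes from
a section. -/
theorem exists_section {T' T E : Scheme.{u}} (g : T' ⟶ T) [UniversallyClosed g]
    [UniversallyInjective g] [Surjective g] (h : E ⟶ T) [AlgebraicGeometry.Etale h] (a : T' ⟶ E)
    (ha : a ≫ h = g) : ∃ σ : T ⟶ E, σ ≫ h = 𝟙 T ∧ g ≫ σ = a := by
  let pr := pullback.fst h g
  let s : T' ⟶ pullback h g := pullback.lift a (𝟙 T') (by rw [ha, Category.id_comp])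
  have hs : s ≫ pullback.snd h g = 𝟙 T' := pullback.lift_snd _ _ _
  haveI : AlgebraicGeometry.Etale (s ≫ pullback.snd h g) := by rw [hs]; infer_instance
  haveI : AlgebraicGeometry.Etale s := Etale.of_comp s (pullback.snd h g)
  haveI : IsSplitMono s := ⟨⟨⟨_, hs⟩⟩⟩
  haveI : IsOpenImmersion s := IsOpenImmersion.of_flat_of_mono s
  haveI : UniversallyInjective pr := MorphismProperty.pullback_fst _ _ ‹_›
  have hpr : IsOpenMap pr := fun U hU => by
    rw [← isClosed_compl_iff, ← Set.image_compl_eq ⟨pr.injective, pr.surjective⟩]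
    exact pr.isClosedMap _ hU.isClosed_compl
  have hsa : s ≫ pr = a := pullback.lift_fst _ _ _
  have hopen : IsOpen (Set.range a) := by
    rw [← hsa, Scheme.Hom.comp_base, TopCat.coe_comp, Set.range_comp]
    exact hpr _ s.isOpenEmbedding.isOpen_range
  let W : E.Opens := ⟨Set.range a, hopen⟩
  let a' : T' ⟶ (W : Scheme) := IsOpenImmersion.lift W.ι a (by simp [W])
  have ha' : a' ≫ W.ι = a := IsOpenImmersion.lift_fac _ _ _
  haveI : Surjective a' := ⟨fun ⟨w, hw⟩ => by
    obtain ⟨t, rfl⟩ := hw
    refine ⟨t, W.ι.injective ?_⟩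
    rw [← Scheme.Hom.comp_apply, ha']
    rfl⟩
  let k := W.ι ≫ h
  have hk : a' ≫ k = g := by simp only [k, ← Category.assoc, ha', ha]
  haveI : Surjective k := by
    refine ⟨fun t => ?_⟩
    obtain ⟨t', rfl⟩ := g.surjective t
    exact ⟨a' t', by rw [← Scheme.Hom.comp_apply, hk]⟩
  haveI : Surjective (pullback.diagonal k) := by
    let m := pullback.map g g k k a' a' (𝟙 T) (by simp [hk]) (by simp [hk])
    haveI : Surjective m :=
      MorphismProperty.pullbackMap (P := @Surjective) ‹Surjective a'› ‹Surjective a'› hk.symm hk.symm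
    have e : pullback.diagonal g ≫ m = a' ≫ pullback.diagonal k := by
      apply pullback.hom_ext
      · rw [Category.assoc, Category.assoc, pullback.diagonal_fst, Category.comp_id]
        erw [pullback.lift_fst, ← Category.assoc, pullback.diagonal_fst, Category.id_comp]
      · rw [Category.assoc, Category.assoc, pullback.diagonal_snd, Category.comp_id]
        erw [pullback.lift_snd, ← Category.assoc, pullback.diagonal_snd, Category.id_comp]
    haveI : Surjective (pullback.diagonal g) := (UniversallyInjective.iff_diagonal g).mp ‹_›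
    refine ⟨fun z => ?_⟩
    obtain ⟨z', rfl⟩ := m.surjective z
    obtain ⟨t, rfl⟩ := (pullback.diagonal g).surjective z'
    exact ⟨a' t, by rw [← Scheme.Hom.comp_apply, ← Scheme.Hom.comp_apply, e]⟩
  haveI : IsIso (pullback.diagonal k) := by
    rw [isIso_iff_isOpenImmersion_and_epi_base]
    exact ⟨inferInstance, (TopCat.epi_iff_surjective _).mpr (pullback.diagonal k).surjective⟩
  haveI : Mono k := (pullback.isIso_diagonal_iff _).mp ‹_›
  haveI : IsOpenImmersion k := IsOpenImmersion.of_flat_of_mono k
  haveI : IsIso k := by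
    rw [isIso_iff_isOpenImmersion_and_epi_base]
    exact ⟨inferInstance, (TopCat.epi_iff_surjective _).mpr k.surjective⟩
  refine ⟨inv k ≫ W.ι, by simp [k], ?_⟩
  rw [← hk, Category.assoc, IsIso.hom_inv_id_assoc, ha']

theorem pullback_map_bijective {S S' : Scheme.{u}} (g : S' ⟶ S) [UniversallyClosed g]
    [UniversallyInjective g] [Surjective g] (X Y : Over S) [AlgebraicGeometry.Etale X.hom] :
    Function.Bijective (fun φ : Y ⟶ X => (Over.pullback g).map φ) := by
  haveI : UniversallyInjective (pullback.fst Y.hom g) := MorphismProperty.pullback_fst _ _ ‹_›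
  refine ⟨fun φ ψ e => ?_, fun ψ => ?_⟩
  · ext1
    refine eq_of_surjective_comp_eq (pullback.fst Y.hom g) X.hom _ _ (by simp) ?_
    have := congr(($e).left ≫ pullback.fst X.hom g)
    simp only [Over.pullback_map_left] at this
    erw [pullback.lift_fst, pullback.lift_fst] at this
    exact this
  · let a₀ : pullback Y.hom g ⟶ X.left := ψ.left ≫ pullback.fst X.hom g
    have ha₀ : a₀ ≫ X.hom = pullback.fst Y.hom g ≫ Y.hom := by
      have := Over.w ψ
      simp only [Over.pullback_obj_hom] at this
      simp only [a₀, Category.assoc, pullback.condition]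
      rw [reassoc_of% this]
    let a := pullback.lift a₀ (pullback.fst Y.hom g) ha₀
    obtain ⟨σ, hσ, hσa⟩ := exists_section (pullback.fst Y.hom g) (pullback.snd X.hom Y.hom) a
      (pullback.lift_snd _ _ _)
    refine ⟨Over.homMk (σ ≫ pullback.fst X.hom Y.hom) ?_, ?_⟩
    · rw [Category.assoc, pullback.condition, reassoc_of% hσ]
    · ext1
      apply pullback.hom_ext
      · simp only [Over.pullback_map_left, pullback.lift_fst, Over.homMk_left]
        rw [reassoc_of% hσa]
        exact pullback.lift_fst _ _ _
      · have := Over.w ψ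
        simp only [Over.pullback_obj_hom] at this
        simp only [Over.pullback_map_left]
        erw [pullback.lift_snd]
        exact this.symm

end Groth.Agent.EtFin
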